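import Cfsg.Agent.H60.DE.Data

/-!
# S3677, `PΩ⁺(2n, q)`, `n ≥ 6` even: the simple factor is not alternating (helper812)
-/

set_option autoImplicit false

namespace Cfsg.Agent.H812.NA

open Cfsg.Agent.H60.DE Cfsg.Agent.H902.Lte Cfsg.Agent.H902.Art Cfsg.Agent.H364.SpVal Cfsg.Agent.H364.SpPrim
  Cfsg.Agent.H365.Zsig Cfsg.Agent.H364.DCross Cfsg.Agent.Lib.Zsigmondy

/-! ### numerical facts -/


theorem num4 : ∀ s : ℕ, 9 ≤ s → s ^ 2 * (4 * s ^ 2 + 7) < 4 ^ (s - 1) := by
  intro s hs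
  induction s, hs using Nat.le_induction with
  | base => norm_num
  | succ s hs ih =>
    obtain ⟨c, rfl⟩ : ∃ c, s = c + 9 := ⟨s - 9, by omega⟩
    have h1 : 4 ^ (c + 9 + 1 - 1) = 4 * 4 ^ (c + 9 - 1) := by
      rw [show c + 9 + 1 - 1 = (c + 9 - 1) + 1 by omega, pow_succ, mul_comm]
    rw [h1]
    nlinarith [Nat.zero_le (c ^ 2), Nat.zero_le (c ^ 3), Nat.zero_le (c ^ 4)]

theorem num2 : ∀ s : ℕ, 20 ≤ s → s ^ 2 * (6 * s ^ 2 + 12) < 2 ^ s := by
  intro s hs
  induction s, hs using Nat.le_induction with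
  | base => norm_num
  | succ s hs ih =>
    obtain ⟨c, rfl⟩ : ∃ c, s = c + 20 := ⟨s - 20, by omega⟩
    rw [pow_succ 2]
    nlinarith [Nat.zero_le (c ^ 2), Nat.zero_le (c ^ 3), Nat.zero_le (c ^ 4)]

theorem fin4 : ∀ j < 65, j % 2 = 1 → 7 ≤ j → j * (4 * j + 7) < 4 ^ (j.totient - 1) := by
  decide +kernel

theorem fin2 : ∀ j < 362, j % 2 = 1 → 5 ≤ j → j = 5 ∨ j = 7 ∨ j = 9 ∨ j = 15 ∨
    j * (6 * j + 12) < 2 ^ j.totient := by
  decide +kernel

theorem big4 {j : ℕ} (hodd : j % 2 = 1) (hj : 7 ≤ j) : j * (4 * j + 7) < 4 ^ (j.totient - 1) := by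
  by_cases h : j < 65
  · exact fin4 j h hodd hj
  · have h1 := odd_le_totient_sq j (Nat.odd_iff.2 hodd)
    have h2 : 9 ≤ j.totient := by
      by_contra h3
      have h4 : j.totient ^ 2 ≤ 8 ^ 2 := Nat.pow_le_pow_left (by omega) 2
      omega
    refine lt_of_le_of_lt ?_ (num4 _ h2)
    exact Nat.mul_le_mul h1 (by omega)

theorem big2 {j : ℕ} (hodd : j % 2 = 1) (hj : 5 ≤ j) : j = 5 ∨ j = 7 ∨ j = 9 ∨ j = 15 ∨
    j * (6 * j + 12) < 2 ^ j.totient := by
  by_cases h : j < 362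
  · exact fin2 j h hodd hj
  · right; right; right; right
    have h1 := odd_le_totient_sq j (Nat.odd_iff.2 hodd)
    have h2 : 20 ≤ j.totient := by
      by_contra h3
      have h4 : j.totient ^ 2 ≤ 19 ^ 2 := Nat.pow_le_pow_left (by omega) 2
      omega
    refine lt_of_le_of_lt ?_ (num2 _ h2)
    exact Nat.mul_le_mul h1 (by omega)

/-- `q ≥ 5`, `x = q - 1`, `j = n - 1` -/
theorem num_big {j x : ℕ} (hodd : j % 2 = 1) (hj : 5 ≤ j) (hx : 4 ≤ x) (h5 : j = 5 → 5 ≤ x) :
    j * (12 + 3 * (j + 1) * (x + 1)) < x ^ j.totient := by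
  by_cases hj5 : j = 5
  · subst hj5
    have h6 := h5 rfl
    have h7 : Nat.totient 5 = 4 := by decide
    rw [h7]
    obtain ⟨c, rfl⟩ : ∃ c, x = c + 5 := ⟨x - 5, by omega⟩
    nlinarith [Nat.zero_le (c ^ 2), Nat.zero_le (c ^ 3), Nat.zero_le (c ^ 4)]
  · have hj7 : 7 ≤ j := by omega
    have h1 := big4 hodd hj7
    have h2 : j.totient - 1 + 1 = j.totient := by
      have : 0 < j.totient := Nat.totient_pos.2 (by omega)
      omega
    have h3 : x ^ j.totient = x ^ (j.totient - 1) * x := by rw [← pow_succ, h2]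
    have h4 : 4 ^ (j.totient - 1) ≤ x ^ (j.totient - 1) := Nat.pow_le_pow_left hx _
    rw [h3]
    have h5' : j * (4 * j + 7) * x < x ^ (j.totient - 1) * x :=
      Nat.mul_lt_mul_of_pos_right (lt_of_lt_of_le h1 h4) (by omega)
    refine lt_of_le_of_lt ?_ h5'
    rw [mul_assoc j (4 * j + 7) x]
    apply Nat.mul_le_mul_left
    obtain ⟨c, rfl⟩ : ∃ c, x = c + 4 := ⟨x - 4, by omega⟩
    obtain ⟨b, rfl⟩ : ∃ b, j = b + 7 := ⟨j - 7, by omega⟩
    nlinarith [Nat.zero_le (b * c)]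

/-- a product with `4 (q + 1)` -/
theorem four_mul_le {x : ℕ} (hx : 4 ≤ x) : 4 * (x + 2) ≤ 2 ^ (x + 1) := by
  induction x, hx using Nat.le_induction with
  | base => norm_num
  | succ x hx ih =>
    rw [pow_succ]
    omega

/-! ### valuations of factorials -/

theorem val_ge {p k : ℕ} [hp : Fact p.Prime] : k / p + k / p ^ 2 ≤ padicValNat p k.factorial := by
  rw [padicValNat_factorial (b := max (Nat.log p k + 1) 3) (by omega)]
  have h : ({1, 2} : Finset ℕ) ⊆ Finset.Ico 1 (max (Nat.log p k + 1) 3) := by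
    intro i hi
    simp only [Finset.mem_insert, Finset.mem_singleton] at hi
    rw [Finset.mem_Ico]
    omega
  refine le_trans ?_ (Finset.sum_le_sum_of_subset h)
  rw [Finset.sum_pair (by norm_num), pow_one]

theorem val_mono {p a b : ℕ} [hp : Fact p.Prime] (h : a ≤ b) :
    padicValNat p a.factorial ≤ padicValNat p b.factorial :=
  (padicValNat_dvd_iff_le (Nat.factorial_ne_zero b)).1
    ((pow_padicValNat_dvd).trans (Nat.factorial_dvd_factorial h))

/-- `v₃((4n-3)!) > n + v₃(n!)` -/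
theorem val_three {n k : ℕ} (hn : 6 ≤ n) (hk : 4 * n - 3 ≤ k) :
    n + padicValNat 3 n.factorial < padicValNat 3 k.factorial := by
  have : Fact (Nat.Prime 3) := ⟨Nat.prime_three⟩
  set c := (4 * n - 3) / 3 with hc
  have h1 : 3 * c ≤ 4 * n - 3 := Nat.mul_div_le _ _
  have h2 : n + 1 ≤ c := by omega
  have h3 : padicValNat 3 (3 * c).factorial = padicValNat 3 c.factorial + c := padicValNat_factorial_mul c
  have h4 := val_mono (p := 3) (h1.trans hk)
  have h5 := val_mono (p := 3) (show n ≤ c by omega)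
  omega

universe u

/-! ### alternating groups -/

theorem exists_alt {m : ℕ} (c : Multiset ℕ) (h1 : c.sum ≤ m) (h2 : ∀ a ∈ c, 2 ≤ a)
    (h3 : Even (c.sum + Multiset.card c)) : ∃ g : alternatingGroup (Fin m), orderOf g = c.lcm := by
  obtain ⟨g, hg⟩ := (Equiv.Perm.exists_with_cycleType_iff (α := Fin m) (m := c)).2
    ⟨by rw [Fintype.card_fin]; exact h1, h2⟩
  refine ⟨⟨g, ?_⟩, ?_⟩
  · rw [Equiv.Perm.mem_alternatingGroup, Equiv.Perm.sign_of_cycleType, hg, h3.neg_one_pow]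
  · rw [Subgroup.orderOf_mk, ← Equiv.Perm.lcm_cycleType, hg]

theorem exists_two2 {m r : ℕ} (hr : r.Prime) (hr2 : r ≠ 2) (h : r + 4 ≤ m) :
    ∃ g : alternatingGroup (Fin m), orderOf g = r * 2 := by
  obtain ⟨g, hg⟩ := exists_alt (m := m) {r, 2, 2} (by
      simp only [Multiset.insert_eq_cons, Multiset.sum_cons, Multiset.sum_singleton]
      omega)
    (by
      intro a ha
      simp only [Multiset.insert_eq_cons, Multiset.mem_cons, Multiset.mem_singleton] at ha
      rcases ha with rfl | rfl | rfl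
      · exact hr.two_le
      · exact le_refl 2
      · exact le_refl 2)
    (by
      have h1 := hr.odd_of_ne_two hr2
      simp only [Multiset.insert_eq_cons, Multiset.sum_cons, Multiset.sum_singleton, Multiset.card_cons,
        Multiset.card_singleton]
      obtain ⟨k, hk⟩ := h1
      exact ⟨k + 4, by omega⟩)
  refine ⟨g, ?_⟩
  rw [hg]
  simp only [Multiset.insert_eq_cons, Multiset.lcm_cons, Multiset.lcm_singleton]
  rw [normalize_eq, lcm_eq_nat_lcm, lcm_eq_nat_lcm, Nat.lcm_self]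
  exact ((Nat.coprime_primes hr Nat.prime_two).2 hr2).lcm_eq_mul

/-- an element of prime order `r` with a centralizer of odd order: `k ≤ r + 3` -/
theorem cyc {S : Type u} [Group S] [Finite S] {k : ℕ} (e : S ≃* alternatingGroup (Fin k)) {r : ℕ} (hr : r.Prime)
    (hr2 : r ≠ 2) {m : ℕ} (hm : ¬ 2 ∣ m)
    (hcs : ∀ y : S, orderOf y = r → Nat.card (Subgroup.centralizer ({y} : Set S)) ∣ m) : k ≤ r + 3 := by
  by_contra h
  obtain ⟨g, hg⟩ := exists_two2 hr hr2 (show r + 4 ≤ k by omega)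
  have hx : orderOf (e.symm g) = r * 2 := (e.symm.orderOf_eq g).trans hg
  set x := e.symm g with hxdef
  have h1 : orderOf (x ^ 2) = r := by
    rw [orderOf_pow_of_dvd (by norm_num) (by rw [hx]; exact Dvd.intro_left _ rfl), hx]
    exact Nat.mul_div_cancel r (by norm_num)
  have h2 : orderOf (x ^ r) = 2 := by
    rw [orderOf_pow_of_dvd hr.ne_zero (by rw [hx]; exact Dvd.intro _ rfl), hx]
    exact Nat.mul_div_cancel_left 2 hr.pos
  apply hm
  refine dvd_trans ?_ (hcs _ h1)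
  have h3 : x ^ r ∈ Subgroup.centralizer ({x ^ 2} : Set S) := by
    rw [Subgroup.mem_centralizer_singleton_iff, ← pow_add, ← pow_add, add_comm]
  have h4 : orderOf (⟨x ^ r, h3⟩ : Subgroup.centralizer ({x ^ 2} : Set S)) = 2 := (Subgroup.orderOf_mk _ h3).trans h2
  have h5 := orderOf_dvd_natCard (⟨x ^ r, h3⟩ : Subgroup.centralizer ({x ^ 2} : Set S))
  rwa [h4] at h5

theorem two_mul_card {S : Type u} [Group S] {k : ℕ} (hk : 5 ≤ k) (e : S ≃* alternatingGroup (Fin k)) :
    2 * Nat.card S = k.factorial := by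
  have : Nontrivial (Fin k) := Fin.nontrivial_iff_two_le.2 (by omega)
  rw [Nat.card_congr e.toEquiv, Nat.card_eq_fintype_card, two_mul_card_alternatingGroup, Fintype.card_perm,
    Fintype.card_fin]

/-! ### arithmetic of `m` -/

theorem m_odd {n q d m : ℕ} (hn : 4 ≤ n) (hev : n % 2 = 0) (h : Num n q d m) : ¬ 2 ∣ m := by
  obtain ⟨c, hc⟩ : ∃ c, n = 2 * c + 2 := ⟨n / 2 - 1, by omega⟩
  have hn1 : n - 1 = 2 * c + 1 := by omega
  have hprod : ∀ a b : ℕ, m * 4 = (2 * a + 1) * 2 * ((2 * b + 1) * 2) → ¬ 2 ∣ m := by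
    intro a b hm h2
    have h3 : m = (2 * a + 1) * (2 * b + 1) := by
      apply Nat.eq_of_mul_eq_mul_right (show 0 < 4 by norm_num)
      rw [hm]; ring
    rw [h3] at h2
    rcases (Nat.Prime.dvd_mul Nat.prime_two).1 h2 with h4 | h4 <;> omega
  have hodd : ∀ a b : ℕ, m = (2 * a + 1) * (2 * b + 1) → ¬ 2 ∣ m := by
    intro a b hm h2
    rw [hm] at h2
    rcases (Nat.Prime.dvd_mul Nat.prime_two).1 h2 with h4 | h4 <;> omega
  have hge : q % 2 = 0 → 2 ≤ q → Nat.gcd 4 (q ^ n - 1) = 1 := by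
    intro h1 h2
    have h3 : q ^ n % 2 = 0 := by rw [Nat.pow_mod, h1, zero_pow (by omega), Nat.zero_mod]
    have h4 : 1 ≤ q ^ n := Nat.one_le_pow _ _ (by omega)
    have h5 : Nat.Coprime (2 ^ 2) (q ^ n - 1) := by
      apply Nat.Coprime.pow_left
      rw [Nat.coprime_two_left]
      exact Nat.odd_iff.2 (by omega)
    exact h5
  rcases h with ⟨-, h1, h2 | h2⟩ | ⟨-, h1, h2 | h2⟩
  · -- `q ≡ 1 mod 4`
    have h3 : q ^ n % 4 = 1 := by rw [Nat.pow_mod, h2]; simp
    have h4 : q ^ (n - 1) % 4 = 1 := by rw [Nat.pow_mod, h2]; simp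
    have h5 : Nat.gcd 4 (q ^ n - 1) = 4 := Nat.gcd_eq_left (by omega)
    rw [h5] at h1
    refine hprod (q ^ (n - 1) / 4) (q / 4 ) ?_
    rw [h1]
    have e1 : q ^ (n - 1) + 1 = (2 * (q ^ (n - 1) / 4) + 1) * 2 := by omega
    have e2 : q + 1 = (2 * (q / 4) + 1) * 2 := by omega
    rw [e1.symm, e2.symm]
  · -- `q ≥ 4` even
    rw [hge h2.1 (by omega), mul_one] at h1
    have h3 : q ^ (n - 1) % 2 = 0 := by rw [Nat.pow_mod, h2.1, zero_pow (by omega), Nat.zero_mod]
    refine hodd (q ^ (n - 1) / 2) (q / 2) ?_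
    rw [h1]
    have e1 : q ^ (n - 1) + 1 = 2 * (q ^ (n - 1) / 2) + 1 := by omega
    have e2 : q + 1 = 2 * (q / 2) + 1 := by omega
    rw [e1.symm, e2.symm]
  · -- `q ≡ 3 mod 4`
    have h6 : q ^ 2 % 4 = 1 := by rw [Nat.pow_mod, h2]
    have h3 : q ^ n % 4 = 1 := by
      rw [hc, show 2 * c + 2 = 2 * (c + 1) by ring, pow_mul, Nat.pow_mod, h6]; simp
    have h4 : q ^ (n - 1) % 4 = 3 := by
      rw [hn1, pow_succ, pow_mul, Nat.mul_mod, Nat.pow_mod, h6, h2]; simp
    have h5 : Nat.gcd 4 (q ^ n - 1) = 4 := Nat.gcd_eq_left (by omega)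
    rw [h5] at h1
    refine hprod (q ^ (n - 1) / 4) (q / 4) ?_
    rw [h1]
    have e1 : q ^ (n - 1) - 1 = (2 * (q ^ (n - 1) / 4) + 1) * 2 := by omega
    have e2 : q - 1 = (2 * (q / 4) + 1) * 2 := by omega
    rw [e1.symm, e2.symm]
  · subst h2
    rw [hge rfl le_rfl, mul_one] at h1
    have h3 : 2 ^ (n - 1) % 2 = 0 := by rw [Nat.pow_mod, Nat.mod_self, zero_pow (by omega), Nat.zero_mod]
    have h4 : 1 ≤ 2 ^ (n - 1) := Nat.one_le_pow _ _ (by norm_num)
    intro h5
    omega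

/-! ### the primes -/

section primes

variable {n p f M : ℕ}

theorem dvd_M (hY : Real (.D n) p f M) {t : ℕ} (ht : t ∣ (p ^ f) ^ (2 * (n - 1)) - 1) (h4 : Nat.Coprime t 4) :
    t ∣ M := by
  have hn : 4 ≤ n := hY.ok
  have h1 : t ∣ num (.D n) (p ^ f) := by
    refine dvd_trans ?_ (AA_dvd_num (n := n) (q := p ^ f))
    refine dvd_trans ?_ (Finset.dvd_prod_of_mem (fun i => (p ^ f) ^ (2 * (i + 1)) - 1)
      (Finset.mem_range.2 (show n - 2 < n - 1 by omega)))
    rw [show 2 * (n - 2 + 1) = 2 * (n - 1) by omega]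
    exact ht
  have h2 : t ∣ dd (.D n) (p ^ f) * M := by
    rw [hY.eq]
    exact h1.mul_left _
  refine Nat.Coprime.dvd_of_dvd_mul_left ?_ h2
  exact Nat.Coprime.coprime_dvd_right (Nat.gcd_dvd_left 4 _) h4

theorem M_ne (hY : Real (.D n) p f M) : M ≠ 0 := by
  rintro rfl
  have h := hY.eq
  have hq := hY.q_ge
  rw [mul_zero] at h
  have h1 : num (.D n) (p ^ f) ≠ 0 := by
    intro h2
    have hn : 4 ≤ n := hY.ok
    have h3 := num_D_mul (n := n) (q := p ^ f) (by omega) (by omega)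
    rw [h2, zero_mul] at h3
    exact AA_ne hq h3.symm
  exact mul_ne_zero (pow_ne_zero _ (by omega)) h1 h.symm

/-- the primes of order `n - 1`, `2 (n - 1)` -/
theorem prime_facts (hY : Real (.D n) p f M) (hn : 6 ≤ n) (hev : n % 2 = 0) {r e : ℕ} (hr : r.Prime)
    (he : e = n - 1 ∨ e = 2 * (n - 1)) (ho : orderOf ((p ^ f : ℕ) : ZMod r) = e) :
    ¬ r ∣ p ^ f ∧ r ≠ 2 ∧ 2 * (n - 1) ∣ r - 1 ∧ 11 ≤ r ∧ r ∣ M ∧ r ∣ (p ^ f) ^ e - 1 := by
  have hq := hY.q_ge
  have h1 : ¬ r ∣ p ^ f := by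
    intro h
    have := Fact.mk hr
    have h0 : ((p ^ f : ℕ) : ZMod r) = 0 := (ZMod.natCast_eq_zero_iff _ r).2 h
    have h1 : ((p ^ f : ℕ) : ZMod r) ^ e = 1 := by rw [← ho]; exact pow_orderOf_eq_one _
    rw [h0, zero_pow (by omega)] at h1
    exact zero_ne_one h1
  have h2 : e ∣ r - 1 := ho ▸ orderOf_dvd_pred hr h1
  have h3 : n - 1 ∣ r - 1 := by
    refine dvd_trans ?_ h2
    rcases he with he | he
    · rw [he]
    · rw [he]; exact Dvd.intro_left _ rfl
  have h4 : 2 ≤ r := hr.two_le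
  have h5 : n - 1 ≤ r - 1 := Nat.le_of_dvd (by omega) h3
  have h6 : r ≠ 2 := by omega
  have h7 : 2 ∣ r - 1 := by
    have := hr.odd_of_ne_two h6
    obtain ⟨c, hc⟩ := this
    exact ⟨c, by omega⟩
  have h8 : Nat.Coprime 2 (n - 1) := by
    rw [Nat.coprime_two_left]
    exact Nat.odd_iff.2 (by omega)
  have h9 : 2 * (n - 1) ∣ r - 1 := h8.mul_dvd_of_dvd_of_dvd h7 h3
  have h10 : 2 * (n - 1) ≤ r - 1 := Nat.le_of_dvd (by omega) h9
  have h11 : r ∣ (p ^ f) ^ e - 1 := (dvd_pow_sub_one_iff (by omega) e).2 (by rw [ho])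
  refine ⟨h1, h6, h9, by omega, ?_, h11⟩
  apply dvd_M hY
  · refine (dvd_pow_sub_one_iff (by omega) _).2 ?_
    rw [ho]
    rcases he with he | he
    · rw [he]; exact Dvd.intro_left _ rfl
    · rw [he]
  · have h12 : Nat.Coprime r (2 ^ 2) := ((Nat.coprime_primes hr Nat.prime_two).2 h6).pow_right 2
    exact h12

theorem P_dvd_fact {I MS k r : ℕ} (hr : r.Prime) (hr2 : r ≠ 2) (hI : I ∣ 4) (hk : 2 * MS = k.factorial)
    (h : P r M ∣ I * MS) : P r M ∣ k.factorial := by
  have h1 : P r M ∣ 4 * MS := h.trans (Nat.mul_dvd_mul_right hI MS)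
  have h2 : Nat.Coprime (P r M) 4 := by
    have h12 : Nat.Coprime r (2 ^ 2) := ((Nat.coprime_primes hr Nat.prime_two).2 hr2).pow_right 2
    exact h12.pow_left _
  rw [← hk]
  exact (h2.dvd_of_dvd_mul_left h1).mul_left 2

theorem dvd_P {r a M : ℕ} (hr : r.Prime) (hM : M ≠ 0) (h : r ^ a ∣ M) : r ^ a ∣ P r M :=
  pow_dvd_pow r ((hr.pow_dvd_iff_le_factorization hM).1 h)

theorem val_le_one {r k : ℕ} (hr : r.Prime) (h11 : 11 ≤ r) (hk : k ≤ r + 3) {a : ℕ} (h : r ^ a ∣ k.factorial) :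
    a ≤ 1 := by
  have := Fact.mk hr
  have h1 : a ≤ padicValNat r k.factorial := (padicValNat_dvd_iff_le (Nat.factorial_ne_zero k)).1 h
  have h2 := sub_one_mul_padicValNat_factorial (p := r) k
  have h3 : (r - 1) * padicValNat r k.factorial ≤ r + 3 := by omega
  by_contra h4
  have h5 : (r - 1) * 2 ≤ (r - 1) * padicValNat r k.factorial := Nat.mul_le_mul_left _ (by omega)
  omega

end primes

/-! ### size of the `2`-part and the `3`-part -/

theorem P_eq_padic {r a : ℕ} (hr : r.Prime) : P r a = r ^ padicValNat r a := by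
  rw [P, Nat.factorization_def _ hr]

/-- the bound for `k` -/
theorem boundB {n p f M MS k : ℕ} (hY : Real (.D n) p f M) (hMS : MS ∣ M) (hk : 2 * MS = k.factorial) :
    2 ^ (2 * k) ≤ 2 ^ 12 * (4 * (p ^ f + 1)) ^ (3 * n) := by
  have hq := hY.q_ge
  have hn : 4 ≤ n := hY.ok
  have hM := M_ne hY
  have hMS0 : MS ≠ 0 := fun h => hM (by rw [h] at hMS; exact Nat.eq_zero_of_zero_dvd hMS)
  have hY0 : 1 ≤ 4 * (p ^ f + 1) := by omega
  set Y := 4 * (p ^ f + 1) with hYdef
  by_cases hp2 : p = 2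
  · -- the `3`-part
    have : Fact (Nat.Prime 3) := ⟨Nat.prime_three⟩
    have h1 := P_le_AA hY Nat.prime_three (by omega)
    have h2 : P 3 (AA n (p ^ f)) ≤ Y ^ n := P_le_gen Nat.prime_three hq (by
      intro h
      have := Nat.prime_three.dvd_of_dvd_pow h
      rw [hp2] at this
      norm_num at this) (by omega)
    have h3 : P 3 MS ≤ P 3 M := P_mono Nat.prime_three hM hMS
    have h4 : P 3 k.factorial = P 3 MS := by
      rw [← hk, P_mul (by norm_num) hMS0, P_eq_one (by norm_num), one_mul]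
    have h5 : 3 ^ (k / 3 + k / 3 ^ 2) ≤ Y ^ n := by
      refine (Nat.pow_le_pow_right (by norm_num) (val_ge (p := 3) (k := k))).trans ?_
      rw [← P_eq_padic Nat.prime_three, h4]
      exact h3.trans (h1.trans h2)
    clear_value Y
    set v := k / 3 + k / 3 ^ 2 with hv
    have h6 : 2 ^ (9 * v) ≤ Y ^ (6 * n) := by
      calc 2 ^ (9 * v) = (8 ^ v) ^ 3 := by rw [show 8 = 2 ^ 3 by norm_num, ← pow_mul, ← pow_mul]; ring_nf
        _ ≤ (9 ^ v) ^ 3 := Nat.pow_le_pow_left (Nat.pow_le_pow_left (by norm_num) v) 3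
        _ = (3 ^ v) ^ 6 := by rw [show 9 = 3 ^ 2 by norm_num, ← pow_mul, ← pow_mul, ← pow_mul]; ring_nf
        _ ≤ (Y ^ n) ^ 6 := Nat.pow_le_pow_left h5 6
        _ = Y ^ (6 * n) := by rw [← pow_mul, mul_comm]
    have h7 : 2 * (2 * k) ≤ 9 * v + 24 := by omega
    have h8 : (2 ^ (2 * k)) ^ 2 ≤ (2 ^ 12 * Y ^ (3 * n)) ^ 2 := by
      calc (2 ^ (2 * k)) ^ 2 = 2 ^ (2 * (2 * k)) := by rw [← pow_mul, mul_comm]
        _ ≤ 2 ^ (9 * v + 24) := Nat.pow_le_pow_right (by norm_num) h7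
        _ = 2 ^ (9 * v) * 2 ^ 24 := pow_add _ _ _
        _ ≤ Y ^ (6 * n) * 2 ^ 24 := Nat.mul_le_mul_right _ h6
        _ = (2 ^ 12 * Y ^ (3 * n)) ^ 2 := by
          rw [mul_pow, ← pow_mul, ← pow_mul, mul_comm]
          congr 2
          ring
    exact (Nat.pow_le_pow_iff_left (by norm_num)).1 h8
  · -- the `2`-part
    have : Fact (Nat.Prime 2) := ⟨Nat.prime_two⟩
    have h1 := P_le_AA hY Nat.prime_two (fun h => hp2 h.symm)
    have h2 : P 2 (AA n (p ^ f)) ≤ Y ^ n := P_le_gen Nat.prime_two hq (by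
      intro h
      have := Nat.prime_two.dvd_of_dvd_pow h
      exact hp2 ((Nat.prime_dvd_prime_iff_eq Nat.prime_two hY.hp).1 this).symm) (by omega)
    have h3 : P 2 MS ≤ P 2 M := P_mono Nat.prime_two hM hMS
    have h4 : P 2 k.factorial = 2 * P 2 MS := by
      rw [← hk, P_mul (by norm_num) hMS0]
      congr 1
      rw [P, Nat.prime_two.factorization_self, pow_one]
    have h5 : 2 ^ (k / 2 + k / 2 ^ 2) ≤ 2 * Y ^ n := by
      refine (Nat.pow_le_pow_right (by norm_num) (val_ge (p := 2) (k := k))).trans ?_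
      rw [← P_eq_padic Nat.prime_two, h4]
      exact Nat.mul_le_mul_left 2 (h3.trans (h1.trans h2))
    set v := k / 2 + k / 2 ^ 2 with hv
    have h6 : 2 ^ (3 * v) ≤ 2 ^ 3 * Y ^ (3 * n) := by
      calc 2 ^ (3 * v) = (2 ^ v) ^ 3 := by rw [← pow_mul, mul_comm]
        _ ≤ (2 * Y ^ n) ^ 3 := Nat.pow_le_pow_left h5 3
        _ = _ := by rw [mul_pow, ← pow_mul, mul_comm n 3]
    have h7 : 2 * k ≤ 3 * v + 9 := by omega
    calc 2 ^ (2 * k) ≤ 2 ^ (3 * v + 9) := Nat.pow_le_pow_right (by norm_num) h7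
      _ = 2 ^ 9 * 2 ^ (3 * v) := by rw [pow_add, mul_comm]
      _ ≤ 2 ^ 9 * (2 ^ 3 * Y ^ (3 * n)) := Nat.mul_le_mul_left _ h6
      _ = _ := by rw [← mul_assoc]; norm_num

/-- the `3`-part for `q = 2`, `q = 4` -/
theorem val_three_AA {n q : ℕ} (hq : q = 2 ∨ q = 4) :
    padicValNat 3 (AA n q) = n + padicValNat 3 n.factorial := by
  have hq2 : 2 ≤ q := by omega
  have h1 := val_W_odd Nat.prime_three (by decide) (x := (q : ℤ) ^ 2) (Cfsg.Agent.H902.Art.abs_sq_ge hq2)
    (by rcases hq with rfl | rfl <;> norm_num) n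
  have h2 : orderOf ((((q : ℤ) ^ 2 : ℤ)) : ZMod 3) = 1 := by
    rw [orderOf_eq_one_iff]
    rcases hq with rfl | rfl
    · push_cast; decide
    · push_cast; decide
  rw [h2, Nat.div_one, pow_one] at h1
  have h3 : Fact (Nat.Prime 3) := ⟨Nat.prime_three⟩
  have h4 : padicValInt 3 ((q : ℤ) ^ 2 - 1) = 1 := by
    rcases hq with rfl | rfl
    · have : ((2 : ℕ) : ℤ) ^ 2 - 1 = ((3 : ℕ) : ℤ) := by norm_num
      rw [this, padicValInt.of_nat]
      exact padicValNat_self
    · have : ((4 : ℕ) : ℤ) ^ 2 - 1 = ((3 * 5 : ℕ) : ℤ) := by norm_num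
      rw [this, padicValInt.of_nat, padicValNat.mul (by norm_num) (by norm_num), padicValNat_self,
        padicValNat.eq_zero_of_not_dvd (by norm_num)]
  rw [h4, mul_one] at h1
  rw [← h1, padicValInt, W_sq hq2]
  rfl


/-- two primes -/
theorem four_n_le {n p f M d m MS I k : ℕ} (hD : Dat n p f M d m MS I) (hn : 6 ≤ n) (hI : I ∣ 4)
    (hk : 2 * MS = k.factorial) : 4 * n - 3 ≤ k := by
  have hq := hD.hY.q_ge
  have hev := hD.hev
  have hM := M_ne hD.hY
  -- all primes of order `n - 1` and `2 (n - 1)` are at most `k`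
  have key : ∀ r e : ℕ, r.Prime → (e = n - 1 ∨ e = 2 * (n - 1)) → orderOf ((p ^ f : ℕ) : ZMod r) = e → r ≤ k := by
    intro r e hr he ho
    obtain ⟨h1, h2, h3, h4, h5, h6⟩ := prime_facts hD.hY hn hD.hev hr he ho
    have h7 : P r M ∣ I * MS := by
      by_cases hed : e = d
      · exact hD.per r hr (ho.trans hed)
      · refine hD.big r hr ?_ ?_ (by omega) (by omega)
        · rintro rfl
          exact h1 (dvd_pow_self r (by have := hD.hY.hf; omega))
        · intro hrm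
          have hz : ∀ a : ℕ, r ∣ (p ^ f) ^ a - 1 → e ∣ a := fun a ha => ho ▸ (dvd_pow_sub_one_iff (by omega) a).1 ha
          rcases hD.num with ⟨hd, hm, -⟩ | ⟨hd, hm, -⟩
          · have he' : e = n - 1 := by omega
            have h8 : r ∣ ((p ^ f) ^ (n - 1) + 1) * (p ^ f + 1) := hm ▸ hrm.mul_right _
            rcases (Nat.Prime.dvd_mul hr).1 h8 with h9 | h9
            · rw [he'] at h6
              have h10 : r ∣ ((p ^ f) ^ (n - 1) + 1) - ((p ^ f) ^ (n - 1) - 1) := Nat.dvd_sub h9 h6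
              have h11 : 1 ≤ (p ^ f) ^ (n - 1) := Nat.one_le_pow _ _ (by omega)
              have h12 := Nat.le_of_dvd (by omega) h10
              omega
            · have h10 : r ∣ (p ^ f) ^ 2 - 1 := by
                have : (p ^ f) ^ 2 - 1 = (p ^ f + 1) * (p ^ f - 1) := by
                  have := Nat.sq_sub_sq (p ^ f) 1
                  rwa [one_pow] at this
                rw [this]
                exact h9.mul_right _
              have h11 := Nat.le_of_dvd (by norm_num) (hz 2 h10)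
              omega
          · have he' : e = 2 * (n - 1) := by omega
            have h8 : r ∣ ((p ^ f) ^ (n - 1) - 1) * (p ^ f - 1) := hm ▸ hrm.mul_right _
            rcases (Nat.Prime.dvd_mul hr).1 h8 with h9 | h9
            · have h11 := Nat.le_of_dvd (by omega) (hz _ h9)
              omega
            · have h10 : r ∣ (p ^ f) ^ 1 - 1 := by rwa [pow_one]
              have h11 := Nat.le_of_dvd (by norm_num) (hz 1 h10)
              omega
    have h8 := P_dvd_fact hr h2 hI hk h7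
    have h9 : r ^ 1 ∣ P r M := dvd_P hr hM (by rwa [pow_one])
    rw [pow_one] at h9
    exact hr.dvd_factorial.1 (h9.trans h8)
  obtain ⟨r, hr, hro⟩ := exists_prime_orderOf (a := p ^ f) (n := n - 1) hq (by omega) (fun h => absurd h (by omega))
    (fun h => absurd h.2 (by omega))
  obtain ⟨t, ht, hto⟩ := exists_prime_orderOf (a := p ^ f) (n := 2 * (n - 1)) hq (by omega)
    (fun h => absurd h (by omega)) (fun h => absurd h.2 (by omega))
  have h1 := key r _ hr (Or.inl rfl) hro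
  have h2 := key t _ ht (Or.inr rfl) hto
  obtain ⟨-, -, ⟨a, ha⟩, h3, -⟩ := prime_facts hD.hY hn hD.hev hr (Or.inl rfl) hro
  obtain ⟨-, -, ⟨b, hb⟩, h4, -⟩ := prime_facts hD.hY hn hD.hev ht (Or.inr rfl) hto
  have hne : r ≠ t := by
    rintro rfl
    rw [hro] at hto
    omega
  have hab : a ≠ b := by
    rintro rfl
    omega
  have ha1 : a ≠ 0 := by rintro rfl; omega
  have hb1 : b ≠ 0 := by rintro rfl; omega
  rcases Nat.lt_or_ge a b with h5 | h5
  · have h6 : 2 * (n - 1) * 2 ≤ 2 * (n - 1) * b := Nat.mul_le_mul_left _ (by omega)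
    omega
  · have h6 : 2 * (n - 1) * 2 ≤ 2 * (n - 1) * a := Nat.mul_le_mul_left _ (by omega)
    omega

theorem order_aux {r a e : ℕ} (he : 0 < e) (h1 : a ^ e % r = 1 % r)
    (h2 : ∀ t < e + 1, t.Prime → t ∣ e → a ^ (e / t) % r ≠ 1 % r) : orderOf ((a : ℕ) : ZMod r) = e := by
  apply orderOf_eq_of_pow_and_pow_div_prime he
  · have := (ZMod.natCast_eq_natCast_iff' (a ^ e) 1 r).2 h1
    push_cast at this
    exact this
  · intro t ht hte h3
    apply h2 t (by have := Nat.le_of_dvd he hte; omega) ht hte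
    apply (ZMod.natCast_eq_natCast_iff' (a ^ (e / t)) 1 r).1
    push_cast
    exact h3

/-- **P5 of the row `PΩ⁺(2n, q)`, `n` even, of S3677**: alternating groups, `n ≥ 6`. -/
theorem not_alt {S : Type u} [Group S] [Finite S] {n p f M d m I k : ℕ} (hD : Dat n p f M d m (Nat.card S) I)
    (hn : 6 ≤ n) (hk : 5 ≤ k) (e : S ≃* alternatingGroup (Fin k)) (hI : I ∣ 4)
    (hcs : ∀ r : ℕ, r.Prime → orderOf ((p ^ f : ℕ) : ZMod r) = d → ∀ y : S, orderOf y = r →
      Nat.card (Subgroup.centralizer ({y} : Set S)) ∣ m) : False := by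
  have hkf := two_mul_card hk e
  have hq := hD.hY.q_ge
  have hM := M_ne hD.hY
  have h4n := four_n_le hD hn hI hkf
  have hev := hD.hev
  -- `q = 2`, `q = 4`
  have h24 : ¬ (p ^ f = 2 ∨ p ^ f = 4) := by
    intro h24
    have h3 : Fact (Nat.Prime 3) := ⟨Nat.prime_three⟩
    have hp3 : p ≠ 3 := by
      rintro rfl
      have h5 : 3 ∣ 3 ^ f := dvd_pow_self 3 (by have := hD.hY.hf; omega)
      rcases h24 with h | h <;> · rw [h] at h5; norm_num at h5
    have h1 := P_le_AA hD.hY Nat.prime_three hp3.symm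
    rw [P_eq_padic Nat.prime_three, P_eq_padic Nat.prime_three] at h1
    have h2 := (Nat.pow_le_pow_iff_right (by norm_num)).1 h1
    rw [val_three_AA h24] at h2
    have h4 := val_three hn h4n
    have h5 : padicValNat 3 k.factorial ≤ padicValNat 3 M := by
      have hMS0 : Nat.card S ≠ 0 := Nat.card_pos.ne'
      rw [← hkf, padicValNat.mul (by norm_num) hMS0, padicValNat.eq_zero_of_not_dvd (by norm_num), zero_add]
      exact (padicValNat_dvd_iff_le hM).1 (pow_padicValNat_dvd.trans hD.hMS)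
    omega
  have hmo := m_odd (by omega) hev hD.num
  have hd : d = n - 1 ∨ d = 2 * (n - 1) := by
    rcases hD.num with ⟨h, -⟩ | ⟨h, -⟩ <;> omega
  -- the primes of order `d`
  have hprime : ∀ r : ℕ, r.Prime → orderOf ((p ^ f : ℕ) : ZMod r) = d → P r M ∣ k.factorial ∧ r ≤ k ∧ k ≤ r + 3 := by
    intro r hr ho
    obtain ⟨h1, h2, h3, h4, h5, h6⟩ := prime_facts hD.hY hn hev hr hd ho
    have h8 := P_dvd_fact hr h2 hI hkf (hD.per r hr ho)
    have h9 : r ^ 1 ∣ P r M := dvd_P hr hM (by rwa [pow_one])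
    rw [pow_one] at h9
    exact ⟨h8, hr.dvd_factorial.1 (h9.trans h8), cyc e hr h2 hmo (hcs r hr ho)⟩
  obtain ⟨r, hr, hro, -⟩ := hD.ex
  obtain ⟨-, hr2, hrd, hr11, -⟩ := prime_facts hD.hY hn hev hr hd hro
  obtain ⟨hrP, hrk, hkr⟩ := hprime r hr hro
  -- the primitive part is at most `r`
  have hd3 : 3 ≤ d := by omega
  have hpk0 : pk d (p ^ f) ≠ 0 := by
    intro h
    have := pk_mul d (p ^ f)
    rw [h, zero_mul] at this
    have := Ph_gt_one (n := d) (by omega) hq
    omega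
  have hpk : pk d (p ^ f) ≤ r := by
    have h1 : ∀ {t : ℕ}, t.Prime → t ∣ pk d (p ^ f) → t = r := by
      intro t ht htd
      have hto := order_of_dvd_pk hd3 hq ht htd
      obtain ⟨-, h5, h6⟩ := hprime t ht hto
      obtain ⟨-, -, h7, h8, -⟩ := prime_facts hD.hY hn hev ht hd hto
      rcases Nat.le_total t r with h9 | h9
      · have h10 := Nat.eq_zero_of_dvd_of_lt (Nat.dvd_sub hrd h7) (by omega)
        omega
      · have h10 := Nat.eq_zero_of_dvd_of_lt (Nat.dvd_sub h7 hrd) (by omega)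
        omega
    have h2 := Nat.eq_prime_pow_of_unique_prime_dvd hpk0 h1
    have h3 : pk d (p ^ f) ∣ M := by
      apply dvd_M hD.hY
      · refine (Dvd.intro _ (pk_mul d (p ^ f))).trans ((Ph_dvd (by omega) (by omega)).trans ?_)
        rcases hd with h | h
        · rw [h, show 2 * (n - 1) = (n - 1) * 2 by ring, pow_mul (p ^ f)]
          simpa using Nat.sub_dvd_pow_sub_pow ((p ^ f) ^ (n - 1)) 1 2
        · rw [h]
      · rw [h2]
        have h12 : Nat.Coprime r (2 ^ 2) := ((Nat.coprime_primes hr Nat.prime_two).2 hr2).pow_right 2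
        exact h12.pow_left _
    rw [h2] at h3 ⊢
    have h4 := val_le_one hr hr11 hkr ((dvd_P hr hM h3).trans hrP)
    calc r ^ (pk d (p ^ f)).primeFactorsList.length ≤ r ^ 1 := Nat.pow_le_pow_right hr.pos h4
      _ = r := pow_one r
  have htot : d.totient = (n - 1).totient := by
    rcases hd with h | h
    · rw [h]
    · rw [h, Nat.totient_mul_of_prime_of_not_dvd Nat.prime_two (by omega)]
      norm_num
  have hlow : (p ^ f - 1) ^ (n - 1).totient ≤ k * d := by
    rw [← htot]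
    exact (Ph_lower hq).trans ((Ph_le (by omega)).trans (Nat.mul_le_mul_right _ (hpk.trans hrk)))
  have hB := boundB hD.hY hD.hMS hkf
  have hn1 : (n - 1) % 2 = 1 := by omega
  by_cases hq5 : 5 ≤ p ^ f
  · obtain ⟨x, hx⟩ : ∃ x, p ^ f = x + 1 := ⟨p ^ f - 1, by omega⟩
    have hx4 : 4 ≤ x := by omega
    have h1 : 4 * (p ^ f + 1) ≤ 2 ^ (x + 1) := by rw [hx]; exact four_mul_le hx4
    have h2 : 2 ^ (2 * k) ≤ 2 ^ (12 + 3 * n * (x + 1)) := by
      refine hB.trans ?_
      rw [pow_add]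
      apply Nat.mul_le_mul_left
      calc (4 * (p ^ f + 1)) ^ (3 * n) ≤ (2 ^ (x + 1)) ^ (3 * n) := Nat.pow_le_pow_left h1 _
        _ = _ := by rw [← pow_mul]; congr 1; ring
    have h3 : 2 * k ≤ 12 + 3 * n * (x + 1) := (Nat.pow_le_pow_iff_right (by norm_num)).1 h2
    have hlow' : x ^ (n - 1).totient ≤ (n - 1) * (12 + 3 * ((n - 1) + 1) * (x + 1)) := by
      have hx1 : p ^ f - 1 = x := by omega
      rw [hx1] at hlow
      refine hlow.trans ?_
      have hd2 : d ≤ 2 * (n - 1) := by omega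
      calc k * d ≤ k * (2 * (n - 1)) := Nat.mul_le_mul_left _ hd2
        _ = (n - 1) * (2 * k) := by ring
        _ ≤ (n - 1) * (12 + 3 * n * (x + 1)) := Nat.mul_le_mul_left _ h3
        _ = _ := by rw [show n - 1 + 1 = n by omega]
    by_cases h6 : n - 1 = 5 ∧ x = 4
    · obtain ⟨h6, rfl⟩ := h6
      have hn6 : n = 6 := by omega
      subst hn6
      have hd10 : d = 10 := by
        rcases hD.num with ⟨h, -, -⟩ | ⟨h, -, h'⟩
        · exact h
        · rw [hx] at h'
          omega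
      have ho : orderOf ((p ^ f : ℕ) : ZMod 521) = d := by
        rw [hx, hd10]
        exact order_aux (by norm_num) (by norm_num) (by decide +kernel)
      have := (hprime 521 (by norm_num) ho).2.1
      omega
    · have := num_big hn1 (by omega) hx4 (by omega)
      omega
  · have hq3 : p ^ f = 3 := by omega
    have hdn : d = n - 1 := by
      rcases hD.num with ⟨h, -, h'⟩ | ⟨h, -, -⟩
      · rw [hq3] at h'
        omega
      · exact h
    have h2 : 2 ^ (2 * k) ≤ 2 ^ (12 + 12 * n) := by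
      refine hB.trans ?_
      rw [hq3, pow_add, show 12 * n = 4 * (3 * n) by ring, pow_mul 2 4, show 4 * (3 + 1) = 2 ^ 4 by norm_num]
    have h3 : 2 * k ≤ 12 + 12 * n := (Nat.pow_le_pow_iff_right (by norm_num)).1 h2
    have hlow' : 2 ^ (n - 1).totient ≤ (n - 1) * (6 * (n - 1) + 12) := by
      have hx1 : p ^ f - 1 = 2 := by omega
      rw [hx1] at hlow
      refine hlow.trans ?_
      rw [hdn, mul_comm]
      apply Nat.mul_le_mul_left
      omega
    rcases big2 hn1 (by omega) with h | h | h | h | h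
    · have hn6 : n = 6 := by omega
      subst hn6
      have ho : orderOf ((p ^ f : ℕ) : ZMod 11) = d := by
        rw [hq3, hdn]
        exact order_aux (by norm_num) (by norm_num) (by decide +kernel)
      obtain ⟨h5, h6, h7⟩ := hprime 11 (by norm_num) ho
      have h8 : 11 ^ 2 ∣ M := by
        apply dvd_M hD.hY
        · rw [hq3]; norm_num
        · norm_num
      have := val_le_one (r := 11) (by norm_num) le_rfl h7 ((dvd_P (by norm_num) hM h8).trans h5)
      omega
    · have hn8 : n = 8 := by omega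
      subst hn8
      have ho : orderOf ((p ^ f : ℕ) : ZMod 1093) = d := by
        rw [hq3, hdn]
        exact order_aux (by norm_num) (by norm_num) (by decide +kernel)
      have := (hprime 1093 (by norm_num) ho).2.1
      omega
    · have hn10 : n = 10 := by omega
      subst hn10
      have ho : orderOf ((p ^ f : ℕ) : ZMod 757) = d := by
        rw [hq3, hdn]
        exact order_aux (by norm_num) (by norm_num) (by decide +kernel)
      have := (hprime 757 (by norm_num) ho).2.1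
      omega
    · have hn16 : n = 16 := by omega
      subst hn16
      have ho : orderOf ((p ^ f : ℕ) : ZMod 4561) = d := by
        rw [hq3, hdn]
        exact order_aux (by norm_num) (by norm_num) (by decide +kernel)
      have := (hprime 4561 (by norm_num) ho).2.1
      omega
    · omega

end Cfsg.Agent.H812.NA
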